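import Mathlib
import Cfsg.Agent.Lib.Helper17.ReeTor.Pkgs2

set_option autoImplicit false

/-! Project ReeTor (helper17), package (Z3a): the number of elements of order divisible by `3`
from the structure of the Borel subgroup `U ⋊ H`. -/

universe u

namespace Cfsg.Agent.Lib.Helper4.ReeTor

open Cfsg.Agent.Lib.Helper17.ReeTor

variable {G : Type u} [Group G]

/-- the subgroup `U H` when `H` normalises `U` -/
def semi (U H : Subgroup G) (hn : ∀ h ∈ H, ∀ u ∈ U, h * u * h⁻¹ ∈ U) : Subgroup G where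
  carrier := {g | ∃ v ∈ U, ∃ h ∈ H, g = v * h}
  mul_mem' := by
    rintro a b ⟨v, hv, h, hh, rfl⟩ ⟨v', hv', h', hh', rfl⟩
    refine ⟨v * (h * v' * h⁻¹), U.mul_mem hv (hn h hh v' hv'), h * h', H.mul_mem hh hh', ?_⟩
    group
  one_mem' := ⟨1, U.one_mem, 1, H.one_mem, by simp⟩
  inv_mem' := by
    rintro a ⟨v, hv, h, hh, rfl⟩
    refine ⟨h⁻¹ * v⁻¹ * h⁻¹⁻¹, hn h⁻¹ (H.inv_mem hh) v⁻¹ (U.inv_mem hv), h⁻¹, H.inv_mem hh, ?_⟩
    group

theorem orderOf_conj' (g x : G) : orderOf (g * x * g⁻¹) = orderOf x := by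
  have h : SemiconjBy g x (g * x * g⁻¹) := by
    unfold SemiconjBy
    group
  exact (h.orderOf_eq g).symm

theorem semi_pow {U H : Subgroup G} (hn : ∀ h ∈ H, ∀ u ∈ U, h * u * h⁻¹ ∈ U) {v h : G}
    (hv : v ∈ U) (hh : h ∈ H) (n : ℕ) : ∃ w ∈ U, (v * h) ^ n = w * h ^ n := by
  induction n with
  | zero => exact ⟨1, U.one_mem, by simp⟩
  | succ n ih =>
    obtain ⟨w, hw, hwn⟩ := ih
    refine ⟨w * (h ^ n * v * (h ^ n)⁻¹), U.mul_mem hw (hn _ (H.pow_mem hh n) v hv), ?_⟩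
    rw [pow_succ, hwn, pow_succ]
    group

theorem card_semi [Finite G] (U H : Subgroup G) (hn : ∀ h ∈ H, ∀ u ∈ U, h * u * h⁻¹ ∈ U)
    (hUH : ∀ x ∈ U, x ∈ H → x = 1) :
    Nat.card ↥(semi U H hn) = Nat.card ↥U * Nat.card ↥H := by
  have h1 : ((semi U H hn : Subgroup G) : Set G) =
      (fun p : G × G => p.1 * p.2) '' ((U : Set G) ×ˢ (H : Set G)) := by
    ext g
    constructor
    · rintro ⟨v, hv, h, hh, rfl⟩
      exact ⟨(v, h), ⟨hv, hh⟩, rfl⟩
    · rintro ⟨⟨v, h⟩, ⟨hv, hh⟩, rfl⟩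
      exact ⟨v, hv, h, hh, rfl⟩
  have hinj : Set.InjOn (fun p : G × G => p.1 * p.2) ((U : Set G) ×ˢ (H : Set G)) := by
    rintro ⟨v, h⟩ ⟨hv, hh⟩ ⟨v', h'⟩ ⟨hv', hh'⟩ heq
    simp only at heq
    have h2 : v'⁻¹ * v = h' * h⁻¹ := by
      rw [eq_mul_inv_iff_mul_eq, mul_assoc, heq]
      group
    have h3 : v'⁻¹ * v = 1 :=
      hUH _ (U.mul_mem (U.inv_mem hv') hv) (h2 ▸ H.mul_mem hh' (H.inv_mem hh))
    have h4 : v' = v := inv_mul_eq_one.1 h3
    subst h4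
    have h5 : h = h' := mul_left_cancel heq
    rw [h5]
  have e1 : Nat.card ↥(semi U H hn) = ((semi U H hn : Subgroup G) : Set G).ncard :=
    Nat.card_coe_set_eq _
  have e2 : Nat.card ↥U = (U : Set G).ncard := Nat.card_coe_set_eq _
  have e3 : Nat.card ↥H = (H : Set G).ncard := Nat.card_coe_set_eq _
  rw [e1, e2, e3, h1, hinj.ncard_image, Set.ncard_prod]

theorem three_elt_mem [Finite G] (U H : Subgroup G) (hn : ∀ h ∈ H, ∀ u ∈ U, h * u * h⁻¹ ∈ U)
    (hUH : ∀ x ∈ U, x ∈ H → x = 1) (c : ℕ) (hcard : Nat.card ↥H = c) (hc : ¬ 3 ∣ c)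
    {b : G} (hb : b ∈ semi U H hn) {e : ℕ} (hbe : b ^ 3 ^ e = 1) : b ∈ U := by
  obtain ⟨v, hv, h, hh, rfl⟩ := hb
  obtain ⟨w, hw, hwn⟩ := semi_pow hn hv hh (3 ^ e)
  rw [hbe] at hwn
  have h1 : h ^ 3 ^ e = w⁻¹ := eq_inv_of_mul_eq_one_right hwn.symm
  have h2 : h ^ 3 ^ e = 1 := hUH _ (h1 ▸ U.inv_mem hw) (H.pow_mem hh _)
  have h3 : h ^ c = 1 := by
    have h4 := pow_card_eq_one' (G := ↥H) (x := ⟨h, hh⟩)
    rw [hcard] at h4
    exact congrArg Subtype.val h4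
  have hcop : Nat.gcd (3 ^ e) c = 1 :=
    Nat.Coprime.pow_left e ((Nat.Prime.coprime_iff_not_dvd Nat.prime_three).2 hc)
  have h4 : h ^ (Nat.gcd (3 ^ e) c) = 1 := pow_gcd_eq_one.2 ⟨h2, h3⟩
  rw [hcop, pow_one] at h4
  rw [h4, mul_one]
  exact hv

theorem three_dvd_order [Finite G] (U : Subgroup G) (k : ℕ) (hU : Nat.card ↥U = 3 ^ k) {u : G}
    (hu : u ∈ U) (hu1 : u ≠ 1) : 3 ∣ orderOf u := by
  have h1 : orderOf u ∣ 3 ^ k := by
    rw [← hU]
    exact Subgroup.orderOf_dvd_natCard U hu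
  obtain ⟨j, -, hj⟩ := (Nat.dvd_prime_pow Nat.prime_three).1 h1
  rw [hj]
  rcases j with _ | j
  · rw [pow_zero, orderOf_eq_one_iff] at hj
    exact absurd hj hu1
  · exact dvd_pow_self 3 (Nat.succ_ne_zero j)

theorem odd_order [Finite G] (U : Subgroup G) (k : ℕ) (hU : Nat.card ↥U = 3 ^ k) {u : G}
    (hu : u ∈ U) : orderOf u % 2 = 1 := by
  have h1 : orderOf u ∣ 3 ^ k := by
    rw [← hU]
    exact Subgroup.orderOf_dvd_natCard U hu
  obtain ⟨j, -, hj⟩ := (Nat.dvd_prime_pow Nat.prime_three).1 h1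
  rw [hj]
  exact Nat.odd_iff.1 (Odd.pow (by decide))

theorem not_three_dvd_of_ne [Finite G] (U H : Subgroup G)
    (hn : ∀ h ∈ H, ∀ u ∈ U, h * u * h⁻¹ ∈ U) (c : ℕ) (hcard : Nat.card ↥H = c) (hc : ¬ 3 ∣ c)
    (hfix : ∀ h ∈ H, ∀ u ∈ U, h * u = u * h → u = 1 ∨ h * h = 1)
    {h : G} (hh : h ∈ H) (hh2 : h * h ≠ 1) {u : G} (hu : u ∈ U) : ¬ 3 ∣ orderOf (u * h) := by
  let ρ : ↥U → ↥U := fun v => ⟨v.1 * h * v.1⁻¹ * h⁻¹, by
    have h0 := U.mul_mem v.2 (hn h hh _ (U.inv_mem v.2))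
    simpa [mul_assoc] using h0⟩
  have hinj : Function.Injective ρ := by
    intro v v' hvv
    have h1 : v.1 * h * v.1⁻¹ * h⁻¹ = v'.1 * h * v'.1⁻¹ * h⁻¹ := congrArg Subtype.val hvv
    have h3 : v.1 * h * v.1⁻¹ = v'.1 * h * v'.1⁻¹ := mul_right_cancel h1
    have h2 : h * (v.1⁻¹ * v'.1) = (v.1⁻¹ * v'.1) * h := by
      calc h * (v.1⁻¹ * v'.1) = v.1⁻¹ * (v.1 * h * v.1⁻¹) * v'.1 := by group
        _ = v.1⁻¹ * (v'.1 * h * v'.1⁻¹) * v'.1 := by rw [h3]
        _ = (v.1⁻¹ * v'.1) * h := by group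
    rcases hfix h hh _ (U.mul_mem (U.inv_mem v.2) v'.2) h2 with h4 | h4
    · apply Subtype.ext
      exact inv_mul_eq_one.1 h4
    · exact absurd h4 hh2
  obtain ⟨v, hv⟩ := (Finite.injective_iff_surjective.1 hinj) ⟨u, hu⟩
  have h5 : v.1 * h * v.1⁻¹ * h⁻¹ = u := congrArg Subtype.val hv
  have h6 : u * h = v.1 * h * v.1⁻¹ := by
    rw [← h5]
    group
  rw [h6, orderOf_conj']
  intro h3
  apply hc
  rw [← hcard]
  exact h3.trans (Subgroup.orderOf_dvd_natCard H hh)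

theorem three_part [Finite G] (g : G) (h3 : 3 ∣ orderOf g) :
    ∃ k e : ℕ, g ^ k ≠ 1 ∧ (g ^ k) ^ 3 ^ e = 1 := by
  have hpos : orderOf g ≠ 0 := (orderOf_pos g).ne'
  obtain ⟨e, k, hk, hn⟩ := Nat.exists_eq_pow_mul_and_not_dvd hpos 3 (by norm_num)
  refine ⟨k, e, ?_, ?_⟩
  · intro h1
    have h2 : orderOf g ∣ k := orderOf_dvd_of_pow_eq_one h1
    exact hk (h3.trans h2)
  · rw [← pow_mul, mul_comm, ← hn, pow_orderOf_eq_one]

theorem conj_into_sylow [Finite G] (U : Subgroup G) (hU : IsPGroup 3 U) (hidx : ¬ 3 ∣ U.index)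
    {w : G} {e : ℕ} (hw : w ^ 3 ^ e = 1) : ∃ c : G, c * w * c⁻¹ ∈ U := by
  have : Fact (Nat.Prime 3) := ⟨Nat.prime_three⟩
  have hz : IsPGroup 3 (Subgroup.zpowers w) := by
    rintro ⟨x, hx⟩
    obtain ⟨j, rfl⟩ := Subgroup.mem_zpowers_iff.1 hx
    refine ⟨e, ?_⟩
    apply Subtype.ext
    simp only [Subgroup.coe_pow, Subgroup.coe_one]
    rw [← zpow_natCast, ← zpow_mul, mul_comm, zpow_mul, zpow_natCast, hw, one_zpow]
  obtain ⟨Q, hQ⟩ := hz.exists_le_sylow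
  obtain ⟨c, hc⟩ := MulAction.exists_smul_eq G Q (hU.toSylow hidx)
  refine ⟨c, ?_⟩
  have h1 : w ∈ (Q : Subgroup G) := hQ (Subgroup.mem_zpowers w)
  have h2 : c * w * c⁻¹ ∈ ((c • Q : Sylow 3 G) : Subgroup G) := by
    rw [Sylow.coe_subgroup_smul]
    have h3 := Subgroup.smul_mem_pointwise_smul w (MulAut.conj c) (Q : Subgroup G) h1
    simpa [MulAut.smul_def] using h3
  rw [hc] at h2
  exact h2

/-- the number of `u ∈ U` inverted by the involution `t`, from `|C_U(t)|` -/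
theorem card_inverted [Finite G] (U : Subgroup G) (k : ℕ) (hU : Nat.card ↥U = 3 ^ k) (t : G)
    (htn : ∀ u ∈ U, t * u * t⁻¹ ∈ U) (htt : t * t = 1) :
    Nat.card ↥U = {u : G | u ∈ U ∧ (u * t) * (u * t) = 1}.ncard *
      {u : G | u ∈ U ∧ t * u = u * t}.ncard := by
  have htinv : t⁻¹ = t := inv_eq_of_mul_eq_one_left htt
  set I : Set G := {u : G | u ∈ U ∧ (u * t) * (u * t) = 1} with hI
  set C : Set G := {u : G | u ∈ U ∧ t * u = u * t} with hC
  let φ : G → G := fun v => v * t * v⁻¹ * t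
  have φ1 : ∀ v ∈ U, φ v ∈ I := by
    intro v hv
    refine ⟨?_, ?_⟩
    · have h0 : v * t * v⁻¹ * t = v * (t * v⁻¹ * t⁻¹) := by
        rw [htinv]
        group
      show v * t * v⁻¹ * t ∈ U
      rw [h0]
      exact U.mul_mem hv (htn _ (U.inv_mem hv))
    · have e1 : v * t * v⁻¹ * t * t = v * t * v⁻¹ := by
        rw [mul_assoc (v * t * v⁻¹), htt, mul_one]
      show (v * t * v⁻¹ * t * t) * (v * t * v⁻¹ * t * t) = 1
      rw [e1]
      calc v * t * v⁻¹ * (v * t * v⁻¹) = v * (t * t) * v⁻¹ := by group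
        _ = 1 := by rw [htt, mul_one, mul_inv_cancel]
  have φ2 : ∀ i ∈ I, ∃ v, v ∈ U ∧ φ v = i := by
    intro i hi
    have hti : t * i * t⁻¹ = i⁻¹ := by
      have h0 : i * (t * i * t) = 1 := by
        rw [← hi.2]
        group
      rw [htinv]
      exact eq_inv_of_mul_eq_one_right h0
    have hodd : orderOf i % 2 = 1 := odd_order U k hU hi.1
    have hk : 2 * ((orderOf i + 1) / 2) = orderOf i + 1 := by omega
    set v := i ^ ((orderOf i + 1) / 2) with hv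
    have hvv : v * v = i := by
      rw [hv, ← pow_add, ← two_mul, hk, pow_succ, pow_orderOf_eq_one, one_mul]
    have htv : t * v * t⁻¹ = v⁻¹ := by
      rw [hv, ← conj_pow, hti, inv_pow]
    have htv' : t * v⁻¹ * t⁻¹ = v := by
      have h0 : (t * v * t⁻¹)⁻¹ = v := by rw [htv, inv_inv]
      have h1 : (t * v * t⁻¹)⁻¹ = t * v⁻¹ * t⁻¹ := by group
      rw [← h1, h0]
    refine ⟨v, U.pow_mem hi.1 _, ?_⟩
    calc v * t * v⁻¹ * t = v * (t * v⁻¹ * t⁻¹) := by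
          rw [htinv]
          group
      _ = v * v := by rw [htv']
      _ = i := hvv
  have φ3 : ∀ v : G, ∀ c ∈ C, φ (v * c) = φ v := by
    intro v c hc
    calc (v * c) * t * (v * c)⁻¹ * t = v * (c * t) * c⁻¹ * v⁻¹ * t := by group
      _ = v * (t * c) * c⁻¹ * v⁻¹ * t := by rw [hc.2]
      _ = v * t * v⁻¹ * t := by group
  have φ4 : ∀ v ∈ U, ∀ v' ∈ U, φ v = φ v' → v⁻¹ * v' ∈ C := by
    intro v hv v' hv' h
    have h3 : v * t * v⁻¹ = v' * t * v'⁻¹ := mul_right_cancel h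
    refine ⟨U.mul_mem (U.inv_mem hv) hv', ?_⟩
    calc t * (v⁻¹ * v') = v⁻¹ * (v * t * v⁻¹) * v' := by group
      _ = v⁻¹ * (v' * t * v'⁻¹) * v' := by rw [h3]
      _ = v⁻¹ * v' * t := by group
  choose! s hsU hsφ using φ2
  have himg : (U : Set G) = (fun p : G × G => s p.1 * p.2) '' (I ×ˢ C) := by
    ext v
    constructor
    · intro hv
      have hv' : v ∈ U := hv
      refine ⟨(φ v, (s (φ v))⁻¹ * v), ⟨φ1 v hv', ?_⟩, ?_⟩
      · exact φ4 _ (hsU _ (φ1 v hv')) v hv' (hsφ _ (φ1 v hv'))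
      · show s (φ v) * ((s (φ v))⁻¹ * v) = v
        rw [mul_inv_cancel_left]
    · rintro ⟨⟨i, c⟩, ⟨hi, hc⟩, rfl⟩
      exact U.mul_mem (hsU i hi) hc.1
  have hinj : Set.InjOn (fun p : G × G => s p.1 * p.2) (I ×ˢ C) := by
    rintro ⟨i, c⟩ ⟨hi, hc⟩ ⟨i', c'⟩ ⟨hi', hc'⟩ heq
    simp only at heq
    have h1 := φ3 (s i) c hc
    have h2 := φ3 (s i') c' hc'
    rw [hsφ i hi] at h1
    rw [hsφ i' hi'] at h2
    have h3 : i = i' := by rw [← h1, ← h2, heq]
    subst h3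
    have h4 : c = c' := mul_left_cancel heq
    rw [h4]
  have e2 : Nat.card ↥U = (U : Set G).ncard := Nat.card_coe_set_eq _
  rw [e2]
  calc (U : Set G).ncard = ((fun p : G × G => s p.1 * p.2) '' (I ×ˢ C)).ncard :=
        congrArg Set.ncard himg
    _ = I.ncard * C.ncard := by rw [hinj.ncard_image, Set.ncard_prod]

theorem pkgZ3a : PkgZ3a.{u} := by
  intro hTI G _ _ m q U H t hm hq hG hU hH hab hn hUH htH htt ht1 hinv hfix hC hfus
  classical
  obtain ⟨q', hq', hq'1⟩ : ∃ q', q = 3 * q' ∧ 1 ≤ q' :=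
    ⟨3 ^ (2 * m), by rw [hq, pow_succ]; ring, Nat.one_le_pow _ _ (by norm_num)⟩
  have hqpos : 0 < q := by omega
  have h3c : ¬ 3 ∣ q - 1 := by omega
  have h3c' : ¬ 3 ∣ q ^ 3 + 1 := by
    have h0 : q ^ 3 = 3 * (9 * q' ^ 3) := by
      rw [hq']
      ring
    rw [h0]
    omega
  have hUk : Nat.card ↥U = 3 ^ ((2 * m + 1) * 3) := by rw [hU, hq, ← pow_mul]
  have hBcard : Nat.card ↥(semi U H hn) = q ^ 3 * (q - 1) := by
    rw [card_semi U H hn hUH, hU, hH]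
  have hUp : IsPGroup 3 U := IsPGroup.of_card hUk
  have hidx : ¬ 3 ∣ U.index := by
    have h1 := U.card_mul_index
    rw [hU, hG, mul_assoc] at h1
    have h2 : U.index = (q ^ 3 + 1) * (q - 1) := Nat.eq_of_mul_eq_mul_left (pow_pos hqpos 3) h1
    rw [h2, Nat.Prime.dvd_mul Nat.prime_three]
    tauto
  have hE : ∀ b ∈ semi U H hn, ∀ e : ℕ, b ^ 3 ^ e = 1 → b ∈ U :=
    fun b hb e hbe => three_elt_mem U H hn hUH (q - 1) hH h3c hb hbe
  have hA : ∀ u ∈ U, u ≠ 1 → 3 ∣ orderOf u :=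
    fun u hu hu1 => three_dvd_order U _ hUk hu hu1
  set B := semi U H hn with hBdef
  set X : Set G := {b | b ∈ B ∧ 3 ∣ orderOf b} with hX
  have hXa : ∀ g ∈ B, ∀ x ∈ X, g * x * g⁻¹ ∈ X := by
    intro g hg x hx
    refine ⟨B.mul_mem (B.mul_mem hg hx.1) (B.inv_mem hg), ?_⟩
    rw [orderOf_conj']
    exact hx.2
  have hXb : ∀ g : G, ∀ x ∈ X, g * x * g⁻¹ ∈ X → g ∈ B := by
    intro g x hx hgx
    obtain ⟨k, e, hk1, hke⟩ := three_part x hx.2
    have hwU : x ^ k ∈ U := hE _ (B.pow_mem hx.1 k) e hke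
    have h1 : (g * x * g⁻¹) ^ k = g * x ^ k * g⁻¹ := conj_pow
    have hgw : g * x ^ k * g⁻¹ ∈ U := by
      rw [← h1]
      apply hE _ (B.pow_mem hgx.1 k) e
      rw [h1, conj_pow, hke, mul_one, mul_inv_cancel]
    exact hfus g (x ^ k) hwU hk1 hgw
  have hXc : ∀ y : G, (∃ g : G, ∃ x ∈ X, y = g * x * g⁻¹) ↔ 3 ∣ orderOf y := by
    intro y
    constructor
    · rintro ⟨g, x, hx, rfl⟩
      rw [orderOf_conj']
      exact hx.2
    · intro hy
      obtain ⟨k, e, hk1, hke⟩ := three_part y hy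
      obtain ⟨c, hc⟩ := conj_into_sylow U hUp hidx hke
      refine ⟨c⁻¹, c * y * c⁻¹, ⟨?_, ?_⟩, by group⟩
      · apply hfus (c * y * c⁻¹) (c * y ^ k * c⁻¹) hc
        · intro h1
          apply hk1
          have h2 : y ^ k = c⁻¹ * (c * y ^ k * c⁻¹) * c := by group
          rw [h2, h1]
          group
        · have h2 : y * y ^ k * y⁻¹ = y ^ k := by
            rw [← pow_succ', pow_succ, mul_inv_cancel_right]
          have h3 : c * y * c⁻¹ * (c * y ^ k * c⁻¹) * (c * y * c⁻¹)⁻¹ = c * y ^ k * c⁻¹ := by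
            calc c * y * c⁻¹ * (c * y ^ k * c⁻¹) * (c * y * c⁻¹)⁻¹
                = c * (y * y ^ k * y⁻¹) * c⁻¹ := by group
              _ = c * y ^ k * c⁻¹ := by rw [h2]
          rw [h3]
          exact hc
      · rw [orderOf_conj']
        exact hy
  have hTI' := hTI G B X hXa hXb
  have hcongr : Nat.card {g : G // 3 ∣ orderOf g} =
      Nat.card {y : G // ∃ g : G, ∃ x ∈ X, y = g * x * g⁻¹} :=
    Nat.card_congr (Equiv.subtypeEquivRight (fun y => (hXc y).symm))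
  -- the count of `X`
  have hUn : (U : Set G).ncard = q ^ 3 := (Nat.card_coe_set_eq (U : Set G)).symm.trans hU
  set I : Set G := {u : G | u ∈ U ∧ (u * t) * (u * t) = 1} with hI
  have hIn : I.ncard = q ^ 2 := by
    have h1 := card_inverted U _ hUk t (hn t htH) htt
    have h2 : {u : G | u ∈ U ∧ t * u = u * t}.ncard = q :=
      (Nat.card_coe_set_eq _).symm.trans hC
    rw [h2, hU] at h1
    apply Nat.eq_of_mul_eq_mul_right hqpos
    rw [← h1]
    ring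
  have hIU : I ⊆ (U : Set G) := fun u hu => hu.1
  have hXeq : X = ((U : Set G) \ {1}) ∪ (fun u => u * t) '' ((U : Set G) \ I) := by
    ext b
    constructor
    · rintro ⟨⟨v, hv, h, hh, rfl⟩, h3⟩
      by_cases h1 : h = 1
      · subst h1
        left
        rw [mul_one] at h3 ⊢
        refine ⟨hv, ?_⟩
        rintro rfl
        rw [orderOf_one] at h3
        omega
      · by_cases h2 : h = t
        · subst h2
          right
          refine ⟨v, ⟨hv, ?_⟩, rfl⟩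
          intro hvI
          have h4 : (v * h) ^ 2 = 1 := by
            rw [pow_two]
            exact hvI.2
          have h5 := h3.trans (orderOf_dvd_of_pow_eq_one h4)
          omega
        · exfalso
          have hh2 : h * h ≠ 1 := fun h' => (hinv h hh h').elim h1 h2
          exact not_three_dvd_of_ne U H hn (q - 1) hH h3c hfix hh hh2 hv h3
    · rintro (⟨hb, hb1⟩ | ⟨u, ⟨hu, huI⟩, rfl⟩)
      · exact ⟨⟨b, hb, 1, H.one_mem, (mul_one b).symm⟩, hA b hb (by simpa using hb1)⟩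
      · refine ⟨⟨u, hu, t, htH, rfl⟩, ?_⟩
        have hmem : (u * t) * (u * t) ∈ U := by
          have h0 : (u * t) * (u * t) = u * (t * u * t⁻¹) * (t * t) := by group
          rw [h0, htt, mul_one]
          exact U.mul_mem hu (hn t htH u hu)
        have hne : (u * t) * (u * t) ≠ 1 := fun h => huI ⟨hu, h⟩
        have h4 := hA _ hmem hne
        rw [← pow_two] at h4
        exact h4.trans (orderOf_pow_dvd 2)
  have hdisj : Disjoint ((U : Set G) \ {1}) ((fun u => u * t) '' ((U : Set G) \ I)) := by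
    rw [Set.disjoint_left]
    rintro b ⟨hb, -⟩ ⟨u, ⟨hu, -⟩, rfl⟩
    have h0 : t ∈ U := by
      have h1 := U.mul_mem (U.inv_mem hu) hb
      simpa using h1
    exact ht1 (hUH t h0 htH)
  have hXcard : Nat.card ↥X = 2 * q ^ 3 - q ^ 2 - 1 := by
    have e1 : Nat.card ↥X = X.ncard := Nat.card_coe_set_eq X
    have h1 : ((U : Set G) \ I).ncard + I.ncard = (U : Set G).ncard :=
      Set.ncard_sdiff_add_ncard_of_subset hIU
    have h2 : ((fun u => u * t) '' ((U : Set G) \ I)).ncard = ((U : Set G) \ I).ncard :=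
      ((mul_left_injective t).injOn).ncard_image
    have h3 : ((U : Set G) \ {1}).ncard = (U : Set G).ncard - 1 :=
      Set.ncard_sdiff_singleton_of_mem U.one_mem
    rw [e1, hXeq, Set.ncard_union_eq hdisj, h2, h3]
    rw [hIn, hUn] at h1
    rw [hUn]
    have h4 : 1 ≤ q ^ 3 := Nat.one_le_pow _ _ hqpos
    omega
  rw [hcongr]
  rw [hXcard, hBcard, hG] at hTI'
  have hBpos : 0 < q ^ 3 * (q - 1) := Nat.mul_pos (pow_pos hqpos 3) (by omega)
  apply Nat.eq_of_mul_eq_mul_right hBpos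
  rw [hTI']
  ring

end Cfsg.Agent.Lib.Helper4.ReeTor
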