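import Mathlib
import Cfsg.Agent.Lib.Helper17.ReeTor.Pkgs2
import Cfsg.Agent.Lib.Helper4.ReeTor.Z3a

set_option autoImplicit false

/-! Project ReeTor (helper17), package (Z3b): the elements of order divisible by `3` have order
`3`, `6` or `9`, with their numbers. -/

universe u

namespace Cfsg.Agent.Lib.Helper4.ReeTor

open Cfsg.Agent.Lib.Helper17.ReeTor

variable {G : Type u} [Group G]

/-- an element `w` of the `3`-group `U` inverted by the involution `t` is `v t v⁻¹ t` -/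
theorem exists_sqrt_conj [Finite G] (U : Subgroup G) (k : ℕ) (hU : Nat.card ↥U = 3 ^ k) (t : G)
    (htt : t * t = 1) {i : G} (hiU : i ∈ U) (hi : (i * t) * (i * t) = 1) :
    ∃ v, v ∈ U ∧ v * t * v⁻¹ * t = i := by
  have htinv : t⁻¹ = t := inv_eq_of_mul_eq_one_left htt
  have hti : t * i * t⁻¹ = i⁻¹ := by
    have h0 : i * (t * i * t) = 1 := by
      rw [← hi]
      group
    rw [htinv]
    exact eq_inv_of_mul_eq_one_right h0
  have hodd : orderOf i % 2 = 1 := odd_order U k hU hiU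
  have hk : 2 * ((orderOf i + 1) / 2) = orderOf i + 1 := by omega
  set v := i ^ ((orderOf i + 1) / 2) with hv
  have hvv : v * v = i := by
    rw [hv, ← pow_add, ← two_mul, hk, pow_succ, pow_orderOf_eq_one, one_mul]
  have htv : t * v * t⁻¹ = v⁻¹ := by
    rw [hv, ← conj_pow, hti, inv_pow]
  have htv' : t * v⁻¹ * t⁻¹ = v := by
    have h0 : (t * v * t⁻¹)⁻¹ = v := by rw [htv, inv_inv]
    have h1 : (t * v * t⁻¹)⁻¹ = t * v⁻¹ * t⁻¹ := by group
    rw [← h1, h0]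
  refine ⟨v, U.pow_mem hiU _, ?_⟩
  calc v * t * v⁻¹ * t = v * (t * v⁻¹ * t⁻¹) := by
        rw [htinv]
        group
    _ = v * v := by rw [htv']
    _ = i := hvv

/-- the common setup of (Z3a) and (Z3b) -/
theorem z3_setup (hTI : PkgTI.{u}) (G : Type u) [Group G] [Finite G] (m q : ℕ)
    (U H : Subgroup G) (t : G)
    (hq : q = 3 ^ (2 * m + 1)) (hG : Nat.card G = q ^ 3 * (q ^ 3 + 1) * (q - 1))
    (hU : Nat.card ↥U = q ^ 3) (hH : Nat.card ↥H = q - 1)
    (hn : ∀ h ∈ H, ∀ u ∈ U, h * u * h⁻¹ ∈ U)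
    (hUH : ∀ x ∈ U, x ∈ H → x = 1)
    (htH : t ∈ H) (htt : t * t = 1) (ht1 : t ≠ 1)
    (hinv : ∀ h ∈ H, h * h = 1 → h = 1 ∨ h = t)
    (hfix : ∀ h ∈ H, ∀ u ∈ U, h * u = u * h → u = 1 ∨ h * h = 1)
    (hC : Nat.card {u : G // u ∈ U ∧ t * u = u * t} = q)
    (hfus : ∀ g : G, ∀ u ∈ U, u ≠ 1 → g * u * g⁻¹ ∈ U → ∃ v ∈ U, ∃ h ∈ H, g = v * h) :
    (∀ d : ℕ → Prop, (∀ n, d n → 3 ∣ n) →
      Nat.card {g : G // d (orderOf g)} =
        ({b : G | b ∈ semi U H hn ∧ d (orderOf b)}).ncard * (q ^ 3 + 1)) ∧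
    (∀ b : G, (b ∈ semi U H hn ∧ 3 ∣ orderOf b) ↔
      ((b ∈ U ∧ b ≠ 1) ∨ ∃ u ∈ U, (u * t) * (u * t) ≠ 1 ∧ b = u * t)) ∧
    {u : G | u ∈ U ∧ (u * t) * (u * t) = 1}.ncard = q ^ 2 ∧
    (∀ g : G, 3 ∣ orderOf g → ∃ c : G, ∃ b ∈ semi U H hn, g = c * b * c⁻¹) := by
  classical
  obtain ⟨q', hq', hq'1⟩ : ∃ q', q = 3 * q' ∧ 1 ≤ q' :=
    ⟨3 ^ (2 * m), by rw [hq, pow_succ]; ring, Nat.one_le_pow _ _ (by norm_num)⟩
  have hqpos : 0 < q := by omega
  have h3c : ¬ 3 ∣ q - 1 := by omega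
  have h3c' : ¬ 3 ∣ q ^ 3 + 1 := by
    have h0 : q ^ 3 = 3 * (9 * q' ^ 3) := by
      rw [hq']
      ring
    rw [h0]
    omega
  have hUk : Nat.card ↥U = 3 ^ ((2 * m + 1) * 3) := by rw [hU, hq, ← pow_mul]
  have hBcard : Nat.card ↥(semi U H hn) = q ^ 3 * (q - 1) := by
    rw [card_semi U H hn hUH, hU, hH]
  have hUp : IsPGroup 3 U := IsPGroup.of_card hUk
  have hidx : ¬ 3 ∣ U.index := by
    have h1 := U.card_mul_index
    rw [hU, hG, mul_assoc] at h1
    have h2 : U.index = (q ^ 3 + 1) * (q - 1) := Nat.eq_of_mul_eq_mul_left (pow_pos hqpos 3) h1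
    rw [h2, Nat.Prime.dvd_mul Nat.prime_three]
    tauto
  have hE : ∀ b ∈ semi U H hn, ∀ e : ℕ, b ^ 3 ^ e = 1 → b ∈ U :=
    fun b hb e hbe => three_elt_mem U H hn hUH (q - 1) hH h3c hb hbe
  have hA : ∀ u ∈ U, u ≠ 1 → 3 ∣ orderOf u :=
    fun u hu hu1 => three_dvd_order U _ hUk hu hu1
  have hBpos : 0 < q ^ 3 * (q - 1) := Nat.mul_pos (pow_pos hqpos 3) (by omega)
  set B := semi U H hn with hBdef
  set X : Set G := {b | b ∈ B ∧ 3 ∣ orderOf b} with hX
  have hXb : ∀ g : G, ∀ x ∈ X, g * x * g⁻¹ ∈ X → g ∈ B := by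
    intro g x hx hgx
    obtain ⟨k, e, hk1, hke⟩ := three_part x hx.2
    have hwU : x ^ k ∈ U := hE _ (B.pow_mem hx.1 k) e hke
    have h1 : (g * x * g⁻¹) ^ k = g * x ^ k * g⁻¹ := conj_pow
    have hgw : g * x ^ k * g⁻¹ ∈ U := by
      rw [← h1]
      apply hE _ (B.pow_mem hgx.1 k) e
      rw [h1, conj_pow, hke, mul_one, mul_inv_cancel]
    exact hfus g (x ^ k) hwU hk1 hgw
  have hXc : ∀ y : G, (∃ g : G, ∃ x ∈ X, y = g * x * g⁻¹) ↔ 3 ∣ orderOf y := by
    intro y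
    constructor
    · rintro ⟨g, x, hx, rfl⟩
      rw [orderOf_conj']
      exact hx.2
    · intro hy
      obtain ⟨k, e, hk1, hke⟩ := three_part y hy
      obtain ⟨c, hc⟩ := conj_into_sylow U hUp hidx hke
      refine ⟨c⁻¹, c * y * c⁻¹, ⟨?_, ?_⟩, by group⟩
      · apply hfus (c * y * c⁻¹) (c * y ^ k * c⁻¹) hc
        · intro h1
          apply hk1
          have h2 : y ^ k = c⁻¹ * (c * y ^ k * c⁻¹) * c := by group
          rw [h2, h1]
          group
        · have h2 : y * y ^ k * y⁻¹ = y ^ k := by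
            rw [← pow_succ', pow_succ, mul_inv_cancel_right]
          have h3 : c * y * c⁻¹ * (c * y ^ k * c⁻¹) * (c * y * c⁻¹)⁻¹ = c * y ^ k * c⁻¹ := by
            calc c * y * c⁻¹ * (c * y ^ k * c⁻¹) * (c * y * c⁻¹)⁻¹
                = c * (y * y ^ k * y⁻¹) * c⁻¹ := by group
              _ = c * y ^ k * c⁻¹ := by rw [h2]
          rw [h3]
          exact hc
      · rw [orderOf_conj']
        exact hy
  refine ⟨?_, ?_, ?_, ?_⟩
  · intro d hd
    set Xd : Set G := {b : G | b ∈ B ∧ d (orderOf b)} with hXd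
    have hsub : Xd ⊆ X := fun b hb => ⟨hb.1, hd _ hb.2⟩
    have hXda : ∀ g ∈ B, ∀ x ∈ Xd, g * x * g⁻¹ ∈ Xd := by
      intro g hg x hx
      refine ⟨B.mul_mem (B.mul_mem hg hx.1) (B.inv_mem hg), ?_⟩
      rw [orderOf_conj']
      exact hx.2
    have hXdb : ∀ g : G, ∀ x ∈ Xd, g * x * g⁻¹ ∈ Xd → g ∈ B :=
      fun g x hx hgx => hXb g x (hsub hx) (hsub hgx)
    have hXdc : ∀ y : G, (∃ g : G, ∃ x ∈ Xd, y = g * x * g⁻¹) ↔ d (orderOf y) := by
      intro y
      constructor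
      · rintro ⟨g, x, hx, rfl⟩
        rw [orderOf_conj']
        exact hx.2
      · intro hy
        obtain ⟨g, x, hx, rfl⟩ := (hXc y).2 (hd _ hy)
        rw [orderOf_conj'] at hy
        exact ⟨g, x, ⟨hx.1, hy⟩, rfl⟩
    have hTI' := hTI G B Xd hXda hXdb
    have hcongr : Nat.card {g : G // d (orderOf g)} =
        Nat.card {y : G // ∃ g : G, ∃ x ∈ Xd, y = g * x * g⁻¹} :=
      Nat.card_congr (Equiv.subtypeEquivRight (fun y => (hXdc y).symm))
    have e1 : Nat.card ↥Xd = Xd.ncard := Nat.card_coe_set_eq Xd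
    rw [hcongr]
    rw [e1, hBcard, hG] at hTI'
    apply Nat.eq_of_mul_eq_mul_right hBpos
    rw [hTI']
    ring
  · intro b
    constructor
    · rintro ⟨⟨v, hv, h, hh, rfl⟩, h3⟩
      by_cases h1 : h = 1
      · subst h1
        left
        rw [mul_one] at h3 ⊢
        refine ⟨hv, ?_⟩
        rintro rfl
        rw [orderOf_one] at h3
        omega
      · by_cases h2 : h = t
        · subst h2
          right
          refine ⟨v, hv, ?_, rfl⟩
          intro hvI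
          have h4 : (v * h) ^ 2 = 1 := by
            rw [pow_two]
            exact hvI
          have h5 := h3.trans (orderOf_dvd_of_pow_eq_one h4)
          omega
        · exfalso
          have hh2 : h * h ≠ 1 := fun h' => (hinv h hh h').elim h1 h2
          exact not_three_dvd_of_ne U H hn (q - 1) hH h3c hfix hh hh2 hv h3
    · rintro (⟨hb, hb1⟩ | ⟨u, hu, huI, rfl⟩)
      · exact ⟨⟨b, hb, 1, H.one_mem, (mul_one b).symm⟩, hA b hb hb1⟩
      · refine ⟨⟨u, hu, t, htH, rfl⟩, ?_⟩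
        have hmem : (u * t) * (u * t) ∈ U := by
          have h0 : (u * t) * (u * t) = u * (t * u * t⁻¹) * (t * t) := by group
          rw [h0, htt, mul_one]
          exact U.mul_mem hu (hn t htH u hu)
        have h4 := hA _ hmem huI
        rw [← pow_two] at h4
        exact h4.trans (orderOf_pow_dvd 2)
  · have h1 := card_inverted U _ hUk t (hn t htH) htt
    have h2 : {u : G | u ∈ U ∧ t * u = u * t}.ncard = q :=
      (Nat.card_coe_set_eq _).symm.trans hC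
    rw [h2, hU] at h1
    apply Nat.eq_of_mul_eq_mul_right hqpos
    rw [← h1]
    ring
  · intro g hg
    obtain ⟨c, x, hx, rfl⟩ := (hXc g).2 hg
    exact ⟨c, x, hx.1, rfl⟩

/-- a non-involution `u t` has order `6` -/
theorem order_six [Finite G] (U H : Subgroup G) (k : ℕ) (hU : Nat.card ↥U = 3 ^ k) (t : G)
    (hn : ∀ h ∈ H, ∀ u ∈ U, h * u * h⁻¹ ∈ U) (htH : t ∈ H) (htt : t * t = 1) (htU : t ∉ U)
    (h9 : ∀ u ∈ U, u ^ 9 = 1) (hC3 : ∀ u ∈ U, t * u = u * t → u ^ 3 = 1)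
    {u : G} (hu : u ∈ U) (hne : (u * t) * (u * t) ≠ 1) : orderOf (u * t) = 6 := by
  have hb2U : (u * t) * (u * t) ∈ U := by
    have h0 : (u * t) * (u * t) = u * (t * u * t⁻¹) * (t * t) := by group
    rw [h0, htt, mul_one]
    exact U.mul_mem hu (hn t htH u hu)
  obtain ⟨w, hw, hw9⟩ := semi_pow hn hu htH 9
  have ht9 : t ^ 9 = t := by
    have h0 : t ^ 2 = 1 := by
      rw [pow_two]
      exact htt
    calc t ^ 9 = (t ^ 2) ^ 4 * t := by rw [← pow_mul, ← pow_succ]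
      _ = t := by rw [h0, one_pow, one_mul]
  rw [ht9] at hw9
  have hw'eq : (u * t) * ((u * t) ^ 9)⁻¹ = u * w⁻¹ := by
    rw [hw9]
    group
  generalize hb : u * t = b at *
  have hb18 : b ^ 18 = 1 := by
    have h0 : b ^ 18 = (b * b) ^ 9 := by rw [← pow_two, ← pow_mul]
    rw [h0]
    exact h9 _ hb2U
  have hs2 : (w * t) * (w * t) = 1 := by
    rw [← hw9, ← pow_add]
    exact hb18
  obtain ⟨v, hv, hvw⟩ := exists_sqrt_conj U k hU t htt hw hs2
  have hs : b ^ 9 = v * t * v⁻¹ := by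
    rw [hw9, ← hvw, mul_assoc (v * t * v⁻¹), htt, mul_one]
  have hw'U : b * (b ^ 9)⁻¹ ∈ U := by
    rw [hw'eq]
    exact U.mul_mem hu (U.inv_mem hw)
  have hcomm : b * (b ^ 9)⁻¹ * b ^ 9 = b ^ 9 * (b * (b ^ 9)⁻¹) := by
    have h0 : b ^ 9 * b = b * b ^ 9 := by rw [← pow_succ, ← pow_succ']
    rw [inv_mul_cancel_right, ← mul_assoc, h0, mul_inv_cancel_right]
  have hbw : b = b * (b ^ 9)⁻¹ * b ^ 9 := by rw [inv_mul_cancel_right]
  generalize hw' : b * (b ^ 9)⁻¹ = w' at *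
  have hcU : v⁻¹ * w' * v ∈ U := U.mul_mem (U.mul_mem (U.inv_mem hv) hw'U) hv
  have hct : t * (v⁻¹ * w' * v) = (v⁻¹ * w' * v) * t := by
    calc t * (v⁻¹ * w' * v) = v⁻¹ * ((v * t * v⁻¹) * w') * v := by group
      _ = v⁻¹ * (w' * (v * t * v⁻¹)) * v := by rw [← hs, ← hcomm]
      _ = (v⁻¹ * w' * v) * t := by group
  have hc3 := hC3 _ hcU hct
  have hw'3 : w' ^ 3 = 1 := by
    have h0 : w' = v * (v⁻¹ * w' * v) * v⁻¹ := by group
    rw [h0, conj_pow, hc3, mul_one, mul_inv_cancel]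
  have hb6 : b ^ 6 = 1 := by
    have hcm : Commute w' (b ^ 9) := hcomm
    have e1 : w' ^ 6 = 1 := by
      have h0 : w' ^ 6 = (w' ^ 3) ^ 2 := by rw [← pow_mul]
      rw [h0, hw'3, one_pow]
    have e2 : (b ^ 9) ^ 6 = 1 := by
      have h0 : (b ^ 9) ^ 6 = (b ^ 18) ^ 3 := by rw [← pow_mul, ← pow_mul]
      rw [h0, hb18, one_pow]
    calc b ^ 6 = (w' * b ^ 9) ^ 6 := by rw [← hbw]
      _ = w' ^ 6 * (b ^ 9) ^ 6 := hcm.mul_pow 6
      _ = 1 := by rw [e1, e2, mul_one]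
  have hdvd : orderOf b ∣ 6 := orderOf_dvd_of_pow_eq_one hb6
  have hb1 : b ≠ 1 := by
    rintro h
    apply hne
    rw [h, mul_one]
  have ho1 : orderOf b ≠ 1 := fun h => hb1 (orderOf_eq_one_iff.1 h)
  have ho2 : orderOf b ≠ 2 := by
    intro h
    apply hne
    rw [← pow_two, ← h, pow_orderOf_eq_one]
  have ho3 : orderOf b ≠ 3 := by
    intro h
    have h3 : b ^ 3 = 1 := by rw [← h, pow_orderOf_eq_one]
    have h9' : b ^ 9 = 1 := by
      have h0 : b ^ 9 = (b ^ 3) ^ 3 := by rw [← pow_mul]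
      rw [h0, h3, one_pow]
    rw [hw9] at h9'
    apply htU
    have h1 : t = w⁻¹ := eq_inv_of_mul_eq_one_right h9'
    rw [h1]
    exact U.inv_mem hw
  have h6 : orderOf b ∈ Nat.divisors 6 := Nat.mem_divisors.2 ⟨hdvd, by norm_num⟩
  have hdiv : Nat.divisors 6 = {1, 2, 3, 6} := by decide
  rw [hdiv] at h6
  simp only [Finset.mem_insert, Finset.mem_singleton] at h6
  rcases h6 with h | h | h | h
  · exact absurd h ho1
  · exact absurd h ho2
  · exact absurd h ho3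
  · exact h

theorem pkgZ3b : PkgZ3b.{u} := by
  intro hTI G _ _ m q U H t hm hq hG hU hH hab hn hUH htH htt ht1 hinv hfix hC hfus hU3 h9 hC3
  classical
  obtain ⟨hcount, hstruct, hIn, hconj⟩ :=
    z3_setup hTI G m q U H t hq hG hU hH hn hUH htH htt ht1 hinv hfix hC hfus
  have hqpos : 0 < q := by
    rw [hq]
    positivity
  have hUk : Nat.card ↥U = 3 ^ ((2 * m + 1) * 3) := by rw [hU, hq, ← pow_mul]
  have hUn : (U : Set G).ncard = q ^ 3 := (Nat.card_coe_set_eq (U : Set G)).symm.trans hU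
  have htU : t ∉ U := fun h => ht1 (hUH t h htH)
  have K1 : ∀ u ∈ U, u ≠ 1 → orderOf u = 3 ∨ orderOf u = 9 := by
    intro u hu hu1
    have h1 : orderOf u ∣ 3 ^ 2 := orderOf_dvd_of_pow_eq_one (h9 u hu)
    obtain ⟨j, hj, hj2⟩ := (Nat.dvd_prime_pow Nat.prime_three).1 h1
    interval_cases j
    · rw [pow_zero, orderOf_eq_one_iff] at hj2
      exact absurd hj2 hu1
    · left
      simpa using hj2
    · right
      simpa using hj2
  have K2 : ∀ u ∈ U, (u * t) * (u * t) ≠ 1 → orderOf (u * t) = 6 :=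
    fun u hu hne => order_six U H _ hUk t hn htH htt htU h9 hC3 hu hne
  have hIU : {u : G | u ∈ U ∧ (u * t) * (u * t) = 1} ⊆ (U : Set G) := fun u hu => hu.1
  -- order 3
  have hX3 : {b : G | b ∈ semi U H hn ∧ orderOf b = 3} = {u : G | u ∈ U ∧ orderOf u = 3} := by
    ext b
    constructor
    · rintro ⟨hb, hb3⟩
      rcases (hstruct b).1 ⟨hb, by rw [hb3]⟩ with ⟨hbU, -⟩ | ⟨u, hu, hne, rfl⟩
      · exact ⟨hbU, hb3⟩
      · have h6 := K2 u hu hne
        omega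
    · rintro ⟨hb, hb3⟩
      exact ⟨⟨b, hb, 1, H.one_mem, (mul_one b).symm⟩, hb3⟩
  have hn3 : {u : G | u ∈ U ∧ orderOf u = 3}.ncard = q ^ 2 - 1 :=
    (Nat.card_coe_set_eq _).symm.trans hU3
  -- order 6
  have hX6 : {b : G | b ∈ semi U H hn ∧ orderOf b = 6} =
      (fun u => u * t) '' ((U : Set G) \ {u : G | u ∈ U ∧ (u * t) * (u * t) = 1}) := by
    ext b
    constructor
    · rintro ⟨hb, hb6⟩
      rcases (hstruct b).1 ⟨hb, by rw [hb6]; norm_num⟩ with ⟨hbU, hb1⟩ | ⟨u, hu, hne, rfl⟩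
      · rcases K1 b hbU hb1 with h | h <;> omega
      · exact ⟨u, ⟨hu, fun hI => hne hI.2⟩, rfl⟩
    · rintro ⟨u, ⟨hu, huI⟩, rfl⟩
      have hne : (u * t) * (u * t) ≠ 1 := fun h => huI ⟨hu, h⟩
      exact ⟨⟨u, hu, t, htH, rfl⟩, K2 u hu hne⟩
  have hn6 : ((fun u => u * t) '' ((U : Set G) \
      {u : G | u ∈ U ∧ (u * t) * (u * t) = 1})).ncard = q ^ 3 - q ^ 2 := by
    rw [((mul_left_injective t).injOn).ncard_image]
    have h1 := Set.ncard_sdiff_add_ncard_of_subset hIU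
    rw [hIn, hUn] at h1
    omega
  -- order 9
  have hX9 : {b : G | b ∈ semi U H hn ∧ orderOf b = 9} =
      ((U : Set G) \ {1}) \ {u : G | u ∈ U ∧ orderOf u = 3} := by
    ext b
    constructor
    · rintro ⟨hb, hb9⟩
      rcases (hstruct b).1 ⟨hb, by rw [hb9]; norm_num⟩ with ⟨hbU, hb1⟩ | ⟨u, hu, hne, rfl⟩
      · refine ⟨⟨hbU, by simpa using hb1⟩, fun h => ?_⟩
        have h3 := h.2
        omega
      · have h6 := K2 u hu hne
        omega
    · rintro ⟨⟨hbU, hb1⟩, hb3⟩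
      have hb1' : b ≠ 1 := by simpa using hb1
      refine ⟨⟨b, hbU, 1, H.one_mem, (mul_one b).symm⟩, ?_⟩
      rcases K1 b hbU hb1' with h | h
      · exact absurd ⟨hbU, h⟩ hb3
      · exact h
  have hn9 : (((U : Set G) \ {1}) \ {u : G | u ∈ U ∧ orderOf u = 3}).ncard = q ^ 3 - q ^ 2 := by
    have hsub : {u : G | u ∈ U ∧ orderOf u = 3} ⊆ (U : Set G) \ {1} := by
      rintro u ⟨hu, hu3⟩
      refine ⟨hu, ?_⟩
      intro h1
      have h2 : u = 1 := by simpa using h1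
      rw [h2, orderOf_one] at hu3
      omega
    have h1 := Set.ncard_sdiff_add_ncard_of_subset hsub
    rw [hn3, Set.ncard_sdiff_singleton_of_mem U.one_mem, hUn] at h1
    have h2 : 1 ≤ q ^ 2 := Nat.one_le_pow _ _ hqpos
    have h3 : q ^ 2 ≤ q ^ 3 := Nat.pow_le_pow_right hqpos (by norm_num)
    omega
  have harith : q ^ 3 - q ^ 2 = q ^ 2 * (q - 1) := by
    rw [Nat.mul_sub, mul_one, ← pow_succ]
  refine ⟨?_, ?_, ?_, ?_⟩
  · intro g hg
    obtain ⟨c, b, hb, rfl⟩ := hconj g hg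
    rw [orderOf_conj'] at hg ⊢
    rcases (hstruct b).1 ⟨hb, hg⟩ with ⟨hbU, hb1⟩ | ⟨u, hu, hne, rfl⟩
    · rcases K1 b hbU hb1 with h | h
      · exact Or.inl h
      · exact Or.inr (Or.inr h)
    · exact Or.inr (Or.inl (K2 u hu hne))
  · have h3 := hcount (fun n => n = 3) (fun n hn => by rw [hn])
    beta_reduce at h3
    rw [hX3, hn3] at h3
    exact h3
  · have h6 := hcount (fun n => n = 6) (fun n hn => by rw [hn]; norm_num)
    beta_reduce at h6
    rw [hX6, hn6, harith] at h6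
    exact h6
  · have h9' := hcount (fun n => n = 9) (fun n hn => by rw [hn]; norm_num)
    beta_reduce at h9'
    rw [hX9, hn9, harith] at h9'
    exact h9'

end Cfsg.Agent.Lib.Helper4.ReeTor
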